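import Cfsg.Agent.H596.Weil.Psu

/-!
# The Weil character of degree `q ^ 2 - q` of `PSU 3 F q` on elements without norm one eigenvalues (helper766)

* `exists_irr_le` : `exists_irr` of helper596, with `‖χ g‖ ≤ 1` for `g` without eigenvector of norm one eigenvalue.
* `weil_le` : the same for `PSU 3 F q`.
-/

set_option autoImplicit false

open scoped ComplexConjugate

namespace Cfsg.Agent.H766.PQ.WeilLe

open Module Cfsg Cfsg.Agent Cfsg.Agent.Characters.Ito Cfsg.Agent.Characters.Core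
open Cfsg.Agent.LieClassical.HermBasic Cfsg.Agent.LieClassical.HermSiegel
open Cfsg.Agent.H596.Weil

section

variable {F : Type} [Field F] [Fintype F] {q : ℕ}

attribute [local instance] suAction

/-- the action of `SU × Nm` on vectors -/
@[reducible] def prAction (F : Type) [Field F] (q : ℕ) : DistribMulAction (SU 3 F q × Nm F q) (Fin 3 → F) where
  smul x v := ((x.2 : Fˣ) : F) • act x.1 v
  one_smul v := by
    change (1 : F) • act (1 : SU 3 F q) v = v
    rw [one_smul, act_one]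
  mul_smul x y v := by
    change (((x.2 : Fˣ) : F) * ((y.2 : Fˣ) : F)) • act (x.1 * y.1) v =
      ((x.2 : Fˣ) : F) • act x.1 (((y.2 : Fˣ) : F) • act y.1 v)
    rw [act_mul, act_smul, smul_smul]
  smul_zero x := by
    change ((x.2 : Fˣ) : F) • act x.1 (0 : Fin 3 → F) = 0
    rw [act_zero, smul_zero]
  smul_add x v w := by
    change ((x.2 : Fˣ) : F) • act x.1 (v + w) = ((x.2 : Fˣ) : F) • act x.1 v + ((x.2 : Fˣ) : F) • act x.1 w
    rw [act_add, smul_add]

attribute [local instance] prAction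

omit [Fintype F] in
theorem pr_smul (x : SU 3 F q × Nm F q) (v : Fin 3 → F) : x • v = x.2 • x.1 • v := rfl

theorem hb_pr (hF : Fintype.card F = q ^ 2) (x : SU 3 F q × Nm F q) (v w : Fin 3 → F) :
    hb hF (x • v) (x • w) = hb hF v w := by
  rw [pr_smul, pr_smul, hb_Nm, hb_su]

/-- **The Weil character of degree `q ^ 2 - q`, with a bound.** -/
theorem exists_irr_le (hF : Fintype.card F = q ^ 2)
    (htr : ∀ u v : Fin 3 → F, u ≠ 0 → v ≠ 0 → hermForm 3 F q u u = hermForm 3 F q v v → ∃ g : SU 3 F q, act g u = v) :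
    ∃ χ : SU 3 F q → ℂ, IsIrrCharacter (SU 3 F q) χ ∧ (∃ d : ℕ, χ 1 = d ∧ d + q = q ^ 2) ∧
      ∀ g, (∀ (c : F) (v : Fin 3 → F), c ^ (q + 1) = 1 → act g v = c • v → v = 0) → ‖χ g‖ ≤ 1 := by
  classical
  have hq2 := two_le hF
  obtain ⟨l, hl⟩ := exists_lam hF
  obtain ⟨n, ρ, hρ, hv, hn⟩ := exists_rho (hb hF) l hl
  have := hρ
  have hcV : Fintype.card (Fin 3 → F) = (q ^ 3) ^ 2 := by
    rw [Fintype.card_fun, Fintype.card_fin, hF]
    ring
  have hn3 : n = q ^ 3 := by
    rw [hcV] at hn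
    exact Nat.pow_left_injective (by norm_num : 2 ≠ 0) hn
  have : Fintype (Nm F q) := Fintype.ofFinite _
  have hA : Fintype.card (Nm F q) = q + 1 := by rw [← Nat.card_eq_fintype_card, card_Nm hF]
  set α := Hs.aut (hb hF) (hb_Nm hF) with hα
  set β := Hs.aut (hb hF) (hb_su hF) with hβ
  have hαg : ∀ a, Good ρ (α a) := fun a => good_aut hv (hb_Nm hF) a
  have hβg : ∀ a, Good ρ (β a) := fun a => good_aut hv (hb_su hF) a
  have hαβ : ∀ a g, α a * β g = β g * α a := by
    intro a g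
    ext x
    · show (a • (g • x.v)) _ = (g • (a • x.v)) _
      have e : ∀ x : Fin 3 → F, a • x = ((a : Fˣ) : F) • x := fun x => rfl
      rw [e, e, su_smul, su_smul, act_smul]
    · rfl
  obtain ⟨τ, hτ⟩ := exists_tau ρ α hαg
  have hτW : ∀ a, ∃ c : ℂ, τ a = c • W ρ (α a) := fun a => tau_eq ρ α hαg hτ a
  have htrA : ∀ a : Nm F q, a ≠ 1 → LinearMap.trace ℂ _ (τ a) * LinearMap.trace ℂ _ (τ a⁻¹) = 1 := by
    intro a ha
    rw [trace_mul_trace_eq hv hn (hb_Nm hF) hτW a]
    have h1 : Nat.card {v : Fin 3 → F // a • v = v} = 1 := by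
      rw [Nat.card_eq_one_iff_unique]
      refine ⟨⟨fun x y => ?_⟩, ⟨⟨0, smul_zero a⟩⟩⟩
      have h2 : ∀ x : {v : Fin 3 → F // a • v = v}, x.1 = 0 := by
        rintro ⟨x, hx⟩
        have e : a • x = ((a : Fˣ) : F) • x := rfl
        rw [e] at hx
        have h3 : (((a : Fˣ) : F) - 1) • x = 0 := by rw [sub_smul, one_smul, hx, sub_self]
        rcases smul_eq_zero.1 h3 with h4 | h4
        · exact absurd (Subtype.ext (Units.ext (sub_eq_zero.1 h4))) ha
        · exact h4
      exact Subtype.ext ((h2 x).trans (h2 y).symm)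
    rw [h1, Nat.cast_one]
  obtain ⟨l₀, hl₀, hls⟩ := exists_dims τ hA (by rw [finrank_fin_fun]; exact hn3) htrA
  obtain ⟨m, hm⟩ : ∃ m : AddChar (Additive (Nm F q)) ℂ, m ≠ l₀ := by
    have h1 : 1 < Fintype.card (AddChar (Additive (Nm F q)) ℂ) := by
      rw [card_addChar, hA]
      omega
    exact Fintype.exists_ne_of_one_lt_card h1 l₀
  have hlm : finrank ℂ (wsp τ m) = finrank ℂ (wsp τ l₀) + 1 := by
    have := hls m hm
    omega
  obtain ⟨ω, hω, hωτ⟩ := exists_omega ρ α hαg β hβg hαβ hτ hlm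
  have hsq : q + 1 ≤ q ^ 2 := by nlinarith
  have hpos : ∀ l, 0 < finrank ℂ (wsp τ l) := by
    intro l
    by_cases h : l = l₀
    · subst h; omega
    · have := hls l h
      omega
  -- the norm of the trace of `ω`
  have : Fintype (SU 3 F q) := Fintype.ofFinite _
  have hN : classInner (fun g => LinearMap.trace ℂ _ (ω g)) (fun g => LinearMap.trace ℂ _ (ω g)) =
      (Nat.card (Quotient (MulAction.orbitRel (SU 3 F q) (Fin 3 → F))) : ℂ) := by
    have h1 : ∀ g, LinearMap.trace ℂ _ (ω g) * conj (LinearMap.trace ℂ _ (ω g)) =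
        (Fintype.card (MulAction.fixedBy (Fin 3 → F) g) : ℂ) := by
      intro g
      have h2 : conj (LinearMap.trace ℂ _ (ω g)) = LinearMap.trace ℂ _ (ω g⁻¹) := (S0158.char_inv ω g).symm
      rw [h2, trace_mul_trace_eq hv hn (hb_su hF) hω g, ← Nat.card_eq_fintype_card]
      rfl
    have h2 := MulAction.sum_card_fixedBy_eq_card_orbits_mul_card_group (SU 3 F q) (Fin 3 → F)
    rw [classInner_def, Finset.sum_congr rfl fun g _ => h1 g]
    have h3 : (∑ g : SU 3 F q, (Fintype.card (MulAction.fixedBy (Fin 3 → F) g) : ℂ)) =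
        (Fintype.card (Quotient (MulAction.orbitRel (SU 3 F q) (Fin 3 → F))) : ℂ) * Fintype.card (SU 3 F q) := by
      exact_mod_cast h2
    rw [h3, Nat.card_eq_fintype_card, Nat.card_eq_fintype_card]
    have h4 : (Fintype.card (SU 3 F q) : ℂ) ≠ 0 := Nat.cast_ne_zero.2 Fintype.card_ne_zero
    field_simp
  -- the representation of `SU × Nm`
  let ω' : Representation ℂ (SU 3 F q × Nm F q) (Fin n → ℂ) :=
    { toFun := fun x => ω x.1 * τ x.2
      map_one' := by
        change ω 1 * τ 1 = 1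
        rw [map_one, map_one, mul_one]
      map_mul' := fun x y => by
        change ω (x.1 * y.1) * τ (x.2 * y.2) = (ω x.1 * τ x.2) * (ω y.1 * τ y.2)
        rw [map_mul, map_mul, mul_assoc, mul_assoc, ← mul_assoc (ω y.1), hωτ, mul_assoc] }
  have hω' : ∀ x, ∃ c : ℂ, ω' x = c • W ρ (Hs.aut (hb hF) (hb_pr hF) x) := by
    intro x
    obtain ⟨c₁, h1⟩ := hω x.1
    obtain ⟨c₂, h2⟩ := hτW x.2
    have e : β x.1 * α x.2 = Hs.aut (hb hF) (hb_pr hF) x := by
      rw [← hαβ]
      ext y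
      · rfl
      · rfl
    obtain ⟨c, -, hc⟩ := exists_cocycle ρ (hβg x.1) (hαg x.2) (by rw [e]; exact good_aut hv (hb_pr hF) x)
    refine ⟨c₁ * c₂ * c, ?_⟩
    change ω x.1 * τ x.2 = _
    rw [h1, h2, smul_mul_smul_comm, hc, e, smul_smul]
  have hfin : Finite (SU 3 F q × Nm F q) := inferInstance
  have hbd : ∀ g : SU 3 F q, (∀ (c : F) (v : Fin 3 → F), c ^ (q + 1) = 1 → act g v = c • v → v = 0) →
      ∀ a : Nm F q, ‖LinearMap.trace ℂ _ (ω g * τ a)‖ = 1 := by
    intro g hg a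
    have h1 := trace_mul_trace_eq hv hn (hb_pr hF) hω' (g, a)
    have h2 : LinearMap.trace ℂ _ (ω' (g, a)⁻¹) = conj (LinearMap.trace ℂ _ (ω' (g, a))) :=
      S0158.char_inv ω' (g, a)
    have h3 : Nat.card {v : Fin 3 → F // (g, a) • v = v} = 1 := by
      rw [Nat.card_eq_one_iff_unique]
      refine ⟨⟨fun x y => ?_⟩, ⟨⟨0, smul_zero _⟩⟩⟩
      have h2 : ∀ x : {v : Fin 3 → F // (g, a) • v = v}, x.1 = 0 := by
        rintro ⟨x, hx⟩
        rw [pr_smul] at hx
        have h4 : g • x = a⁻¹ • x := by rw [eq_inv_smul_iff]; exact hx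
        have h5 : (((a⁻¹ : Nm F q) : Fˣ) : F) ^ (q + 1) = 1 := by
          have h2 := (a⁻¹).2
          rw [MonoidHom.mem_ker, powMonoidHom_apply] at h2
          rw [← Units.val_pow_eq_pow_val, h2, Units.val_one]
        exact hg _ x h5 h4
      exact Subtype.ext ((h2 x).trans (h2 y).symm)
    rw [h2, Complex.mul_conj, h3, Nat.cast_one, Complex.normSq_eq_norm_sq] at h1
    have h4 : ‖LinearMap.trace ℂ _ (ω' (g, a))‖ ^ 2 = 1 := by exact_mod_cast h1
    have h5 : 0 ≤ ‖LinearMap.trace ℂ _ (ω' (g, a))‖ := norm_nonneg _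
    have h6 : ‖LinearMap.trace ℂ _ (ω' (g, a))‖ = 1 := by nlinarith
    exact h6
  refine ⟨_, isIrr_wt τ ω hωτ hpos (by rw [hA]; exact orbits_le hF htr) hN l₀, ⟨finrank ℂ (wsp τ l₀), ?_, hl₀⟩, ?_⟩
  · show LinearMap.trace ℂ _ (ω 1 * wt τ l₀) = _
    rw [map_one, one_mul, trace_wt]
  · intro g hg
    show ‖LinearMap.trace ℂ _ (ω g * wt τ l₀)‖ ≤ 1
    have hA0 : (0 : ℝ) < (Fintype.card (Nm F q) : ℝ) := Nat.cast_pos.2 Fintype.card_pos
    rw [wt_def, mul_smul_comm, map_smul, Finset.mul_sum, map_sum, smul_eq_mul, _root_.norm_mul, norm_inv, Complex.norm_natCast]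
    rw [inv_mul_le_iff₀ hA0, mul_one]
    refine (norm_sum_le _ _).trans ?_
    have h1 : ∀ a : Nm F q, ‖LinearMap.trace ℂ (Fin n → ℂ) (ω g * l₀ (Additive.ofMul a⁻¹) • τ a)‖ = 1 := by
      intro a
      rw [mul_smul_comm, map_smul, smul_eq_mul, _root_.norm_mul, hbd g hg, mul_one]
      exact l₀.norm_apply _
    rw [Finset.sum_congr rfl fun a _ => h1 a, Finset.sum_const, Finset.card_univ, nsmul_eq_mul, mul_one]

end

/-- **The Weil character of degree `q ^ 2 - q` of `PSU 3 F q`.** -/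
theorem weil_le {K : Type} [Field K] [Fintype K] {q : ℕ} (hF : Fintype.card K = q ^ 2) (h2 : 2 < q) :
    ∃ χ : IrrCharacter (PSU 3 K q), (χ : PSU 3 K q → ℂ) 1 = (q : ℂ) ^ 2 - q ∧
      ∀ g : SU 3 K q, (∀ (c : K) (v : Fin 3 → K), c ^ (q + 1) = 1 → act g v = c • v → v = 0) →
        ‖(χ : PSU 3 K q → ℂ) (QuotientGroup.mk' (Subgroup.center (SU 3 K q)) g)‖ ≤ 1 := by
  classical
  obtain ⟨χ, hχ, ⟨d, hd, hdq⟩, hle⟩ := exists_irr_le hF (fun u v hu hv h => H644.T9.su_trans hF hu hv h)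
  have hperf := LieClassical.HermPerfect.commutator_SU_eq_top (n := 3) hF le_rfl (fun h => by omega)
  have hker : ∀ z ∈ Subgroup.center (SU 3 K q), χ z = χ 1 := by
    intro z hz
    obtain ⟨c, hcn, hcq, rfl⟩ := (LieClassical.SUBasic.mem_center_SU_iff hF le_rfl z).1 hz
    have h4 : ∀ (k : ℕ) (v : Fin 3 → K), act ((LieClassical.SUBasic.suScalar q c hcn hcq) ^ k) v =
        c ^ k • v := by
      intro k
      induction k with
      | zero => intro v; rw [pow_zero, pow_zero, one_smul, act_one]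
      | succ k ih =>
        intro v
        rw [pow_succ, act_mul, ih, pow_succ, mul_smul]
        congr 1
        rw [act_def, mat_def, LieClassical.SUBasic.coe_suScalar]
        funext i
        rw [Matrix.mulVec_diagonal, Pi.smul_apply, smul_eq_mul]
    by_cases hq3 : q % 3 = 2
    · have hcop : Nat.Coprime d 3 := by
        rw [Nat.coprime_comm, Nat.Prime.coprime_iff_not_dvd Nat.prime_three]
        intro h3
        have h4 : (d + q) % 3 = q ^ 2 % 3 := by rw [hdq]
        rw [Nat.pow_mod, hq3] at h4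
        omega
      refine trivial_of_coprime hperf hχ hd hcop hz ?_
      apply ext_act
      intro v
      rw [h4, hcn, one_smul, act_one]
    · have hc1 : c = 1 := by
        have h5 : orderOf c ∣ 3 := orderOf_dvd_of_pow_eq_one hcn
        have h6 : orderOf c ∣ q + 1 := orderOf_dvd_of_pow_eq_one hcq
        rcases (Nat.dvd_prime Nat.prime_three).1 h5 with h7 | h7
        · exact orderOf_eq_one_iff.1 h7
        · rw [h7] at h6
          omega
      have h5 : LieClassical.SUBasic.suScalar q c hcn hcq = 1 := by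
        apply ext_act
        intro v
        have := h4 1 v
        rw [pow_one, pow_one] at this
        rw [this, hc1, one_smul, act_one]
      rw [h5]
  have : Fintype (Subgroup.center (SU 3 K q)) := Fintype.ofFinite _
  obtain ⟨χ', hχ'⟩ := Blocks.Deflate.exists_deflation (Subgroup.center (SU 3 K q)) χ hχ (by
    rw [Finset.sum_congr rfl fun (n : Subgroup.center (SU 3 K q)) _ => hker n n.2, Finset.sum_const, nsmul_eq_mul]
    refine mul_ne_zero ?_ (isIrr_apply_one_ne_zero hχ)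
    exact Nat.cast_ne_zero.2 (Finset.card_ne_zero.2 ⟨1, Finset.mem_univ _⟩))
  have hval : ∀ g : SU 3 K q, (χ' : PSU 3 K q → ℂ) (QuotientGroup.mk' (Subgroup.center (SU 3 K q)) g) = χ g := by
    intro g
    rw [hχ']
    rfl
  refine ⟨χ', ?_, fun g hg => by rw [hval]; exact hle g hg⟩
  have h1 := hval 1
  rw [map_one] at h1
  rw [h1, hd]
  have h2 : ((d + q : ℕ) : ℂ) = ((q ^ 2 : ℕ) : ℂ) := by rw [hdq]
  push_cast at h2
  linear_combination h2

end Cfsg.Agent.H766.PQ.WeilLe
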