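import Cfsg.Agent.H766.PQ.A01
import Cfsg.Agent.H133.PB.AltOdd
import Cfsg.Agent.S0965

/-!
# S4612: the alternating groups (helper766)

Frobenius' characters of the tuples `(0, j + 1, n + 2 - j)` (the partition `(n - j, j)`) and `(1, s, n + 2 - s)`
(the partition `(n - s, s - 1, 1)`).

* `mem_perm` : a tuple with the residues of the trivial one gives a member of the principal block of `S_n`;
* `three_test` : if the principal `p`-block and the principal `q`-block of `A_n` are equal and the character of the tuple is in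
  the principal `p`-block of `S_n`, then `q` divides the difference of the central characters at a cycle of length three;
* `row_alt` : the alternating groups.
-/

set_option autoImplicit false
set_option linter.unusedSectionVars false

open Cfsg Cfsg.Agent

namespace Cfsg.Agent.H766.PQ

open Cfsg.Agent.H317.PQ Cfsg.Agent.Characters.Core Cfsg.Agent.Blocks.Basic Cfsg.Agent.Blocks.Local
open Cfsg.Agent.H614
open Cfsg.Agent.H133.PB (tr tr_strictMono tr_sum ch_tr ch_mem_principalBlock)

/-- The difference product of three integers. -/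
def F3 (a b c : ℤ) : ℤ := (b - a) * (c - a) * (c - b)

theorem prod_Ioi_three (β : Fin 3 → ℤ) :
    ∏ i : Fin 3, ∏ j ∈ Finset.Ioi i, (β j - β i) = F3 (β 0) (β 1) (β 2) := by
  have e0 : Finset.Ioi (0 : Fin 3) = {1, 2} := by decide
  have e1 : Finset.Ioi (1 : Fin 3) = {2} := by decide
  have e2 : Finset.Ioi (2 : Fin 3) = ∅ := by decide
  rw [Fin.prod_univ_three, e0, e1, e2, Finset.prod_pair (by decide), Finset.prod_singleton,
    Finset.prod_empty]
  unfold F3
  ring

theorem fact_three {b : ℕ} (h : 3 ≤ b) : (b.factorial : ℤ) = b * (b - 1) * (b - 2) * (b - 3).factorial := by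
  obtain ⟨c, rfl⟩ : ∃ c, b = c + 3 := ⟨b - 3, by omega⟩
  rw [Nat.add_sub_cancel, Nat.factorial_succ, Nat.factorial_succ, Nat.factorial_succ]
  push_cast
  ring

/-- The value at a cycle of length three. -/
theorem FM_three (n : ℕ) (hn : 3 ≤ n) (β : Fin 3 → ℕ) (hs : ∑ i, β i = n + ∑ i : Fin 3, (i : ℕ)) :
    FM (3 ::ₘ Multiset.replicate (n - 3) 1) β * ∏ i, ((β i).factorial : ℤ) =
      (n - 3).factorial * ((β 0 : ℤ) * (β 0 - 1) * (β 0 - 2) * F3 (β 0 - 3) (β 1) (β 2) +
        (β 1 : ℤ) * (β 1 - 1) * (β 1 - 2) * F3 (β 0) (β 1 - 3) (β 2) +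
        (β 2 : ℤ) * (β 2 - 1) * (β 2 - 2) * F3 (β 0) (β 1) (β 2 - 3)) := by
  have key : ∀ j : Fin 3, (if 3 ≤ β j then FM (Multiset.replicate (n - 3) 1) (dn β j 3) else 0) *
      ∏ i, ((β i).factorial : ℤ) = (n - 3).factorial * ((β j : ℤ) * (β j - 1) * (β j - 2) *
        F3 (Function.update (fun i => (β i : ℤ)) j (β j - 3) 0) (Function.update (fun i => (β i : ℤ)) j (β j - 3) 1)
          (Function.update (fun i => (β i : ℤ)) j (β j - 3) 2)) := by
    intro j
    split_ifs with hj
    · have h2 : ∏ i, ((β i).factorial : ℤ) =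
          ((β j : ℤ) * (β j - 1) * (β j - 2)) * ∏ i, ((dn β j 3 i).factorial : ℤ) := by
        have h4 : ∏ i ∈ Finset.univ.erase j, ((dn β j 3 i).factorial : ℤ) =
            ∏ i ∈ Finset.univ.erase j, ((β i).factorial : ℤ) :=
          Finset.prod_congr rfl (fun k hk => by rw [dn_ne β 3 (Finset.ne_of_mem_erase hk)])
        rw [← Finset.mul_prod_erase _ _ (Finset.mem_univ j),
          ← Finset.mul_prod_erase _ (fun i => ((dn β j 3 i).factorial : ℤ)) (Finset.mem_univ j),
          dn_self, h4, fact_three hj]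
        ring
      have h3 := FM_ones_formula (n - 3) (dn β j 3) (by have := sum_dn β j hj; omega)
      have h5 : ∀ i, ((dn β j 3 i : ℕ) : ℤ) = Function.update (fun i => (β i : ℤ)) j (β j - 3) i := by
        intro i
        by_cases hi : i = j
        · subst hi
          rw [dn_self, Function.update_self, Nat.cast_sub hj]
          rfl
        · rw [dn_ne β 3 hi, Function.update_of_ne hi]
      have h6 : ∏ i : Fin 3, ∏ k ∈ Finset.Ioi i, (((dn β j 3 k : ℕ) : ℤ) - (dn β j 3 i : ℕ)) =
          F3 (Function.update (fun i => (β i : ℤ)) j (β j - 3) 0) (Function.update (fun i => (β i : ℤ)) j (β j - 3) 1)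
          (Function.update (fun i => (β i : ℤ)) j (β j - 3) 2) := by
        simp only [h5]
        exact prod_Ioi_three _
      rw [h6] at h3
      rw [h2]
      linear_combination ((β j : ℤ) * (β j - 1) * (β j - 2)) * h3
    · have h7 : (β j : ℤ) * (β j - 1) * (β j - 2) = 0 := by
        have : β j = 0 ∨ β j = 1 ∨ β j = 2 := by omega
        rcases this with h | h | h <;> rw [h] <;> norm_num
      rw [h7]
      ring
  rw [FM_cons, Finset.sum_mul, Finset.sum_congr rfl fun j _ => key j, Fin.sum_univ_three]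
  simp [Function.update]
  ring

section

variable {n : ℕ}

theorem mem_perm {p : ℕ} (hp : p.Prime) {β : Fin 3 → ℕ} (hβ : StrictMono β)
    (hs : ∑ i, β i = n + ∑ i : Fin 3, (i : ℕ)) (σ : Equiv.Perm (Fin 3))
    (h : ∀ i, tr 2 n i % p = β (σ i) % p) :
    (⟨ch (Fin n) β, isIrr_ch hβ (by rw [Fintype.card_fin]; exact hs)⟩ : IrrCharacter (Equiv.Perm (Fin n))) ∈
      B0 p (Equiv.Perm (Fin n)) := by
  have : Fact p.Prime := ⟨hp⟩
  intro M hM
  refine ch_mem_principalBlock (α := Fin n) (k := 2) hM hβ (by rw [Fintype.card_fin]; exact hs) ?_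
  rw [Fintype.card_fin]
  exact (H614.sameCol_of_mod h).trans (sameCol_comp p β σ)

/-- a permutation with cycle type `{3}` : the index of the centralizer -/
theorem index_three {g : Equiv.Perm (Fin n)} (hg : g.cycleType = {3}) :
    (Subgroup.centralizer ({g} : Set (Equiv.Perm (Fin n)))).index * (3 * (n - 3).factorial) = n.factorial := by
  have h1 := Equiv.Perm.nat_card_centralizer g
  rw [hg] at h1
  simp only [Fintype.card_fin, Multiset.sum_singleton, Multiset.prod_singleton, Multiset.toFinset_singleton,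
    Finset.prod_singleton, Multiset.count_singleton_self, Nat.factorial_one, mul_one] at h1
  have h2 := Subgroup.card_mul_index (Subgroup.centralizer ({g} : Set (Equiv.Perm (Fin n))))
  rw [h1] at h2
  rw [Nat.card_eq_fintype_card, Fintype.card_perm, Fintype.card_fin] at h2
  rw [← h2]
  ring

theorem three_test {p q : ℕ} (hp : p.Prime) (hq : q.Prime) (hn : 5 ≤ n) (hS : Same p q (alternatingGroup (Fin n)))
    {β : Fin 3 → ℕ} (hβ : StrictMono β) (hs : ∑ i, β i = n + ∑ i : Fin 3, (i : ℕ)) (σ : Equiv.Perm (Fin 3))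
    (h : ∀ i, tr 2 n i % p = β (σ i) % p) {P : ℤ}
    (hP : 3 * P * F3 (β 0) (β 1) (β 2) = (n : ℤ) * (n - 1) * (n - 2) * F3 (β 0) (β 1) (β 2) -
      ((β 0 : ℤ) * (β 0 - 1) * (β 0 - 2) * F3 (β 0 - 3) (β 1) (β 2) +
        (β 1 : ℤ) * (β 1 - 1) * (β 1 - 2) * F3 (β 0) (β 1 - 3) (β 2) +
        (β 2 : ℤ) * (β 2 - 1) * (β 2 - 2) * F3 (β 0) (β 1) (β 2 - 3))) : (q : ℤ) ∣ P := by
  classical
  have : Fact p.Prime := ⟨hp⟩
  have : Fact q.Prime := ⟨hq⟩
  have : Nontrivial (Fin n) := Fin.nontrivial_iff_two_le.2 (by omega)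
  have hs' : ∑ i, β i = Fintype.card (Fin n) + ∑ i : Fin 3, (i : ℕ) := by rw [Fintype.card_fin]; exact hs
  obtain ⟨M₁, hM₁⟩ := Blocks.ExistsModular.exists_isPModular hp
  obtain ⟨M, hM⟩ := Blocks.ExistsModular.exists_isPModular hq
  have hMp : M.IsPrime := isPrime_of_isPModular hM
  have hχ := isIrr_ch (α := Fin n) hβ hs'
  obtain ⟨ψ, hψ⟩ := exists_constituent (alternatingGroup (Fin n)) hχ
  have h1 : ψ ∈ B0 p (alternatingGroup (Fin n)) := by
    rw [B0_eq hp hM₁]
    exact H611.CoverPrincipal.mem_principalBlock_of_over p hM₁ (alternatingGroup (Fin n)) ⟨ch (Fin n) β, hχ⟩ ψ hψ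
      ((mem_perm hp hβ hs σ h) M₁ hM₁)
  rw [hS, B0_eq hq hM] at h1
  -- a cycle of length three
  obtain ⟨g, hg⟩ := (Equiv.Perm.exists_with_cycleType_iff (Fin n) (m := {3})).mpr
    ⟨by simp; omega, by simp⟩
  have hgA : g ∈ alternatingGroup (Fin n) := by
    rw [Equiv.Perm.mem_alternatingGroup, Equiv.Perm.sign_of_cycleType, hg]
    simp
    decide
  -- the principal block covers the principal block
  let one : IrrCharacter (Equiv.Perm (Fin n)) := ⟨fun _ => 1, isIrrCharacter_one⟩
  let oneN : IrrCharacter (alternatingGroup (Fin n)) := ⟨fun _ => 1, isIrrCharacter_one⟩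
  have hone : classInner (fun x : alternatingGroup (Fin n) => (one : Equiv.Perm (Fin n) → ℂ) x)
      (oneN : alternatingGroup (Fin n) → ℂ) ≠ 0 := by
    have h11 := classInner_irr_self (G := alternatingGroup (Fin n)) (χ := fun _ => 1) isIrrCharacter_one
    change classInner (fun _ : alternatingGroup (Fin n) => (1 : ℂ)) (fun _ => 1) ≠ 0
    rw [h11]
    exact one_ne_zero
  have h2 := (S0965.result q M hM (alternatingGroup (Fin n)) (principalBlock M (Equiv.Perm (Fin n)))
    ⟨one, rfl⟩ (principalBlock M (alternatingGroup (Fin n))) ⟨oneN, rfl⟩).1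
    ⟨one, mem_blockOf_self one, oneN, mem_blockOf_self oneN, hone⟩ one (mem_blockOf_self one) ψ h1 ⟨g, hgA⟩
  rw [← Blocks.Over.centralChar_eq_of_over (alternatingGroup (Fin n)) hχ ψ.2 hψ ⟨g, hgA⟩] at h2
  -- the values
  have hd1 := FM_ones_formula n β hs
  rw [show (∏ i : Fin 3, ∏ j ∈ Finset.Ioi i, ((β j : ℤ) - β i)) = F3 (β 0) (β 1) (β 2) from
    prod_Ioi_three fun i => (β i : ℤ)] at hd1
  have hv1 := FM_three n (by omega) β hs
  have hidx := index_three hg
  have hty : ty g = 3 ::ₘ Multiset.replicate (n - 3) 1 := by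
    rw [ty_eq, hg, Fintype.card_fin]
    simp
  set d : ℤ := FM (Multiset.replicate n 1) β with hd
  set v : ℤ := FM (3 ::ₘ Multiset.replicate (n - 3) 1) β with hv
  have hchd : ch (Fin n) β 1 = (d : ℂ) := by rw [ch_apply, ty_one, Fintype.card_fin]
  have hchv : ch (Fin n) β g = (v : ℂ) := by rw [ch_apply, hty]
  have hd0 : (d : ℂ) ≠ 0 := by
    rw [← hchd]
    exact irr_one_ne_zero hχ
  have hK : (∏ i, ((β i).factorial : ℤ)) ≠ 0 := by
    rw [Finset.prod_ne_zero_iff]
    intro i _
    exact_mod_cast (β i).factorial_ne_zero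
  have hnf : (n.factorial : ℤ) = n * (n - 1) * (n - 2) * (n - 3).factorial := fact_three (by omega)
  have hidx' : ((Subgroup.centralizer ({g} : Set (Equiv.Perm (Fin n)))).index : ℤ) * (3 * (n - 3).factorial) =
      n.factorial := by exact_mod_cast hidx
  have hc : P * d = ((Subgroup.centralizer ({g} : Set (Equiv.Perm (Fin n)))).index : ℤ) * (d - v) := by
    apply mul_right_cancel₀ hK
    linear_combination P * hd1 - ((Subgroup.centralizer ({g} : Set (Equiv.Perm (Fin n)))).index : ℤ) * (hd1 - hv1) +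
      ((Subgroup.centralizer ({g} : Set (Equiv.Perm (Fin n)))).index : ℤ) * ((n - 3).factorial : ℤ) * hP
      - P * F3 (β 0) (β 1) (β 2) * hidx'
      - ((Subgroup.centralizer ({g} : Set (Equiv.Perm (Fin n)))).index : ℤ) * F3 (β 0) (β 1) (β 2) * hnf
  have h3 : centralChar (fun _ : Equiv.Perm (Fin n) => (1 : ℂ)) g - centralChar (ch (Fin n) β) g = (P : ℂ) := by
    have hc' : (P : ℂ) * d = ((Subgroup.centralizer ({g} : Set (Equiv.Perm (Fin n)))).index : ℂ) * (d - v) := by
      exact_mod_cast hc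
    unfold centralChar
    rw [hchd, hchv]
    field_simp
    linear_combination -hc'
  have h4 : MemLocalIdeal M (P : ℂ) := by
    rw [← h3]
    exact h2
  rcases Int.natAbs_eq P with h5 | h5
  · rw [h5] at h4 ⊢
    rw [Int.cast_natCast, memLocalIdeal_natCast_iff hM] at h4
    exact_mod_cast h4
  · have h6 : MemLocalIdeal M ((P.natAbs : ℕ) : ℂ) := by
      have h7 := memLocalIdeal_neg h4
      rw [h5] at h7
      simpa using h7
    rw [memLocalIdeal_natCast_iff hM] at h6
    rw [h5, dvd_neg]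
    exact_mod_cast h6

theorem tr_two (n : ℕ) : tr 2 n = ![0, 1, n + 2] := by
  funext i
  fin_cases i
  · rfl
  · rfl
  · rfl

theorem mod_eq_of_dvd_sub {p a b : ℕ} (h : (p : ℤ) ∣ (b : ℤ) - a) : a % p = b % p :=
  ((Nat.modEq_iff_dvd).2 h)

/-- the partition `(n - j, j)` -/
theorem two_row_test {p q : ℕ} (hp : p.Prime) (hq : q.Prime) (hn : 5 ≤ n) (hS : Same p q (alternatingGroup (Fin n)))
    {j : ℕ} (hj : 2 * j ≤ n) (h : (p : ℤ) ∣ j ∨ (p : ℤ) ∣ n + 1 - j) :
    (q : ℤ) ∣ j * (n + 1 - j) * (n - 2) := by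
  set β : Fin 3 → ℕ := ![0, j + 1, n + 2 - j] with hβdef
  have hc : ((n + 2 - j : ℕ) : ℤ) = n + 2 - j := by
    rw [Nat.cast_sub (by omega)]
    push_cast
    ring
  have b0 : β 0 = 0 := rfl
  have b1 : β 1 = j + 1 := rfl
  have b2 : β 2 = n + 2 - j := rfl
  have hβ : StrictMono β := by
    intro a b hab
    fin_cases a <;> fin_cases b <;> simp [hβdef] at hab ⊢ <;> omega
  have hs : ∑ i, β i = n + ∑ i : Fin 3, (i : ℕ) := by
    rw [Fin.sum_univ_three, Fin.sum_univ_three, b0, b1, b2]
    simp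
    omega
  have hP : 3 * ((j : ℤ) * (n + 1 - j) * (n - 2)) * F3 (β 0) (β 1) (β 2) =
      (n : ℤ) * (n - 1) * (n - 2) * F3 (β 0) (β 1) (β 2) -
      ((β 0 : ℤ) * (β 0 - 1) * (β 0 - 2) * F3 (β 0 - 3) (β 1) (β 2) +
        (β 1 : ℤ) * (β 1 - 1) * (β 1 - 2) * F3 (β 0) (β 1 - 3) (β 2) +
        (β 2 : ℤ) * (β 2 - 1) * (β 2 - 2) * F3 (β 0) (β 1) (β 2 - 3)) := by
    rw [b0, b1, b2, hc]
    unfold F3
    push_cast
    ring
  rcases h with h | h
  · refine three_test hp hq hn hS hβ hs 1 (fun i => ?_) hP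
    rw [tr_two]
    apply mod_eq_of_dvd_sub
    fin_cases i
    · simp [hβdef]
    · simpa [hβdef] using h
    · simp only [hβdef]
      change (p : ℤ) ∣ ((n + 2 - j : ℕ) : ℤ) - ((n + 2 : ℕ) : ℤ)
      rw [hc]
      push_cast
      have : (n : ℤ) + 2 - j - (n + 2) = -j := by ring
      rw [this, dvd_neg]
      exact h
  · refine three_test hp hq hn hS hβ hs (Equiv.swap 1 2) (fun i => ?_) hP
    rw [tr_two]
    apply mod_eq_of_dvd_sub
    fin_cases i
    · simp [hβdef, Equiv.swap_apply_of_ne_of_ne]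
    · change (p : ℤ) ∣ ((β ((Equiv.swap (1 : Fin 3) 2) 1) : ℕ) : ℤ) - ((1 : ℕ) : ℤ)
      rw [Equiv.swap_apply_left, b2, hc]
      push_cast
      have : (n : ℤ) + 2 - j - 1 = n + 1 - j := by ring
      rw [this]
      exact h
    · change (p : ℤ) ∣ ((β ((Equiv.swap (1 : Fin 3) 2) 2) : ℕ) : ℤ) - ((n + 2 : ℕ) : ℤ)
      rw [Equiv.swap_apply_right, b1]
      push_cast
      have : (j : ℤ) + 1 - (n + 2) = -(n + 1 - j) := by ring
      rw [this, dvd_neg]
      exact h

/-- the partition `(n - s, s - 1, 1)` -/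
theorem three_row_test {p q : ℕ} (hp : p.Prime) (hq : q.Prime) (hn : 5 ≤ n) (hS : Same p q (alternatingGroup (Fin n)))
    {s : ℕ} (hs2 : 2 ≤ s) (hsn : 2 * s ≤ n + 1) (h : s = p ∨ (s = 2 ∧ (p : ℤ) ∣ n)) :
    (q : ℤ) ∣ (n - 2) * (s - 1) * (n + 2 - s) + (n - s - 2) * (n - s + 2) := by
  set β : Fin 3 → ℕ := ![1, s, n + 2 - s] with hβdef
  have hc : ((n + 2 - s : ℕ) : ℤ) = n + 2 - s := by
    rw [Nat.cast_sub (by omega)]
    push_cast
    ring
  have b0 : β 0 = 1 := rfl
  have b1 : β 1 = s := rfl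
  have b2 : β 2 = n + 2 - s := rfl
  have hβ : StrictMono β := by
    intro a b hab
    fin_cases a <;> fin_cases b <;> simp [hβdef] at hab ⊢ <;> omega
  have hs : ∑ i, β i = n + ∑ i : Fin 3, (i : ℕ) := by
    rw [Fin.sum_univ_three, Fin.sum_univ_three, b0, b1, b2]
    simp
    omega
  have hP : 3 * (((n : ℤ) - 2) * (s - 1) * (n + 2 - s) + (n - s - 2) * (n - s + 2)) * F3 (β 0) (β 1) (β 2) =
      (n : ℤ) * (n - 1) * (n - 2) * F3 (β 0) (β 1) (β 2) -
      ((β 0 : ℤ) * (β 0 - 1) * (β 0 - 2) * F3 (β 0 - 3) (β 1) (β 2) +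
        (β 1 : ℤ) * (β 1 - 1) * (β 1 - 2) * F3 (β 0) (β 1 - 3) (β 2) +
        (β 2 : ℤ) * (β 2 - 1) * (β 2 - 2) * F3 (β 0) (β 1) (β 2 - 3)) := by
    rw [b0, b1, b2, hc]
    unfold F3
    push_cast
    ring
  rcases h with rfl | ⟨rfl, h⟩
  · refine three_test hp hq hn hS hβ hs (Equiv.swap 0 1) (fun i => ?_) hP
    rw [tr_two]
    apply mod_eq_of_dvd_sub
    fin_cases i
    · change (s : ℤ) ∣ ((β ((Equiv.swap (0 : Fin 3) 1) 0) : ℕ) : ℤ) - ((0 : ℕ) : ℤ)
      rw [Equiv.swap_apply_left, b1]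
      simp
    · change (s : ℤ) ∣ ((β ((Equiv.swap (0 : Fin 3) 1) 1) : ℕ) : ℤ) - ((1 : ℕ) : ℤ)
      rw [Equiv.swap_apply_right, b0]
      simp
    · change (s : ℤ) ∣ ((β ((Equiv.swap (0 : Fin 3) 1) 2) : ℕ) : ℤ) - ((n + 2 : ℕ) : ℤ)
      rw [Equiv.swap_apply_of_ne_of_ne (by decide) (by decide), b2, hc]
      push_cast
      have : (n : ℤ) + 2 - s - (n + 2) = -s := by ring
      rw [this, dvd_neg]
  · refine three_test hp hq hn hS hβ hs (finRotate 3).symm (fun i => ?_) hP
    rw [tr_two]
    apply mod_eq_of_dvd_sub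
    fin_cases i
    · change (p : ℤ) ∣ ((β ((finRotate 3).symm 0) : ℕ) : ℤ) - ((0 : ℕ) : ℤ)
      have e : (finRotate 3).symm 0 = 2 := by decide
      rw [e, b2, hc]
      push_cast
      have : (n : ℤ) + 2 - 2 - 0 = n := by ring
      rw [this]
      exact h
    · change (p : ℤ) ∣ ((β ((finRotate 3).symm 1) : ℕ) : ℤ) - ((1 : ℕ) : ℤ)
      have e : (finRotate 3).symm 1 = 0 := by decide
      rw [e, b0]
      simp
    · change (p : ℤ) ∣ ((β ((finRotate 3).symm 2) : ℕ) : ℤ) - ((n + 2 : ℕ) : ℤ)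
      have e : (finRotate 3).symm 2 = 1 := by decide
      rw [e, b1]
      push_cast
      have : (2 : ℤ) - (n + 2) = -n := by ring
      rw [this, dvd_neg]
      exact h

theorem not_dvd_of_lt {q : ℕ} {a : ℤ} (h0 : 0 < a) (h1 : a < q) : ¬ (q : ℤ) ∣ a := fun h =>
  absurd (Int.le_of_dvd h0 h) (by omega)

/-- **The alternating groups**: distinct primes `p < q ≤ n`. -/
theorem alt_not_same (hn : 5 ≤ n) {p q : ℕ} (hp : p.Prime) (hq : q.Prime) (hpq : p < q) (hqn : q ≤ n) :
    ¬ Same p q (alternatingGroup (Fin n)) := by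
  intro hS
  have hp' : Prime (p : ℤ) := Nat.prime_iff_prime_int.1 hp
  have hq' : Prime (q : ℤ) := Nat.prime_iff_prime_int.1 hq
  have hp2 := hp.two_le
  have hqp : ¬ (q : ℤ) ∣ p := not_dvd_of_lt (by omega) (by omega)
  have hpq' : ¬ (p : ℤ) ∣ q := fun h => by
    have h1 : p ∣ q := by exact_mod_cast h
    exact hpq.ne ((Nat.prime_dvd_prime_iff_eq hp hq).1 h1)
  have T : ∀ {j : ℕ}, 2 * j ≤ n → ((p : ℤ) ∣ j ∨ (p : ℤ) ∣ n + 1 - j) →
      (q : ℤ) ∣ j ∨ (q : ℤ) ∣ (n : ℤ) + 1 - j ∨ (q : ℤ) ∣ n - 2 := by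
    intro j hj h
    rcases hq'.dvd_mul.1 (two_row_test hp hq hn hS hj h) with h1 | h1
    · rcases hq'.dvd_mul.1 h1 with h2 | h2
      · exact Or.inl h2
      · exact Or.inr (Or.inl h2)
    · exact Or.inr (Or.inr h1)
  have T' : ∀ {j : ℕ}, 2 * j ≤ n → ((q : ℤ) ∣ j ∨ (q : ℤ) ∣ n + 1 - j) →
      (p : ℤ) ∣ j ∨ (p : ℤ) ∣ (n : ℤ) + 1 - j ∨ (p : ℤ) ∣ n - 2 := by
    intro j hj h
    rcases hp'.dvd_mul.1 (two_row_test hq hp hn hS.symm hj h) with h1 | h1
    · rcases hp'.dvd_mul.1 h1 with h2 | h2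
      · exact Or.inl h2
      · exact Or.inr (Or.inl h2)
    · exact Or.inr (Or.inr h1)
  by_cases hqn2 : (q : ℤ) ∣ n - 2
  · have hqn3 : (q : ℤ) ≤ n - 2 := Int.le_of_dvd (by omega) hqn2
    by_cases hpn2 : (p : ℤ) ∣ n - 2 ∨ p ≤ 3
    · have hsn : 2 * p ≤ n + 1 := by
        rcases hpn2 with h | h
        · have h1 : p ∣ n - 2 := by
            have : ((n - 2 : ℕ) : ℤ) = n - 2 := by rw [Nat.cast_sub (by omega)]; rfl
            rw [← this] at h
            exact_mod_cast h
          have h2 : q ∣ n - 2 := by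
            have : ((n - 2 : ℕ) : ℤ) = n - 2 := by rw [Nat.cast_sub (by omega)]; rfl
            rw [← this] at hqn2
            exact_mod_cast hqn2
          have h3 : p * q ∣ n - 2 := Nat.Coprime.mul_dvd_of_dvd_of_dvd
            ((Nat.coprime_primes hp hq).2 hpq.ne) h1 h2
          have h4 : p * q ≤ n - 2 := Nat.le_of_dvd (by omega) h3
          have h5 : p * 3 ≤ p * q := Nat.mul_le_mul_left _ (by omega)
          omega
        · omega
      have h1 := three_row_test hp hq hn hS hp2 hsn (Or.inl rfl)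
      have h2 : (q : ℤ) ∣ p * (p - 4) := by
        have h3 : (p : ℤ) * (p - 4) = (((n : ℤ) - 2) * (p - 1) * (n + 2 - p) + (n - p - 2) * (n - p + 2)) -
            (n - 2) * ((p - 1) * (n + 2 - p) + (n + 2 - 2 * p)) := by ring
        rw [h3]
        exact dvd_sub h1 (Dvd.dvd.mul_right hqn2 _)
      rcases hq'.dvd_mul.1 h2 with h3 | h3
      · exact hqp h3
      · rcases lt_trichotomy (p : ℤ) 4 with h4 | h4 | h4
        · have h5 : (q : ℤ) ∣ 4 - p := by
            rw [← dvd_neg]
            have : -((4 : ℤ) - p) = p - 4 := by ring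
            rwa [this]
          exact not_dvd_of_lt (by omega) (by omega) h5
        · have h5 : p = 4 := by exact_mod_cast h4
          rw [h5] at hp
          exact absurd hp (by decide)
        · exact not_dvd_of_lt (by omega) (by omega) h3
    · push Not at hpn2
      obtain ⟨h1, h2⟩ := hpn2
      rcases T' (j := 3) (by omega) (Or.inr (by
        have : (n : ℤ) + 1 - (3 : ℕ) = n - 2 := by push_cast; ring
        rw [this]; exact hqn2)) with h3 | h3 | h3
      · exact not_dvd_of_lt (by norm_num) (by push_cast; omega) h3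
      · have : (n : ℤ) + 1 - (3 : ℕ) = n - 2 := by push_cast; ring
        rw [this] at h3
        exact h1 h3
      · exact h1 h3
  · by_cases hpn2 : (p : ℤ) ∣ n - 2
    · by_cases hq3 : q = 3
      · subst hq3
        have hp22 : p = 2 := by omega
        subst hp22
        have h1 := T (j := 1) (by omega) (Or.inr (by push_cast at hpn2 ⊢; omega))
        have h2 := T (j := 2) (by omega) (Or.inl (by simp))
        push_cast at h1 h2 hqn2
        rcases h1 with h1 | h1 | h1 <;> rcases h2 with h2 | h2 | h2 <;> omega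
      · have hq4 : q ≠ 4 := by
          rintro rfl
          exact absurd hq (by decide)
        by_cases hn6 : 6 ≤ n
        · have e : (n : ℤ) + 1 - (3 : ℕ) = n - 2 := by push_cast; ring
          rcases T (j := 3) (by omega) (Or.inr (by rw [e]; exact hpn2)) with h3 | h3 | h3
          · exact not_dvd_of_lt (by norm_num) (by push_cast; omega) h3
          · rw [e] at h3
            exact hqn2 h3
          · exact hqn2 h3
        · have hn5 : n = 5 := by omega
          have hq5 : q = 5 := by omega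
          subst hn5
          subst hq5
          have hp3 : p = 3 := by
            have h1 : p ≤ 4 := by omega
            interval_cases p
            · omega
            · rfl
            · exact absurd hp (by decide)
          subst hp3
          have h1 := three_row_test hq hp hn hS.symm (s := 2) le_rfl (by norm_num) (Or.inr ⟨rfl, by simp⟩)
          norm_num at h1
    · by_cases h2p : 2 * p ≤ n
      · have h1 : (q : ℤ) ∣ (n : ℤ) + 1 - p := by
          rcases T (j := p) h2p (Or.inl dvd_rfl) with h | h | h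
          · exact absurd h hqp
          · exact h
          · exact absurd h hqn2
        by_cases hr : (n + 1) % p = 0
        · have hpn : (p : ℤ) ∣ (n : ℤ) + 1 := by
            have : p ∣ n + 1 := Nat.dvd_of_mod_eq_zero hr
            exact_mod_cast this
          by_cases h2q : 2 * q ≤ n
          · rcases T' (j := q) h2q (Or.inl dvd_rfl) with h | h | h
            · exact hpq' h
            · exact hpq' ((dvd_sub_right hpn).1 h)
            · exact hpn2 h
          · obtain ⟨t, ht⟩ := h1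
            have ht1 : t = 1 := by
              have h5 : 0 < (q : ℤ) * t := by rw [← ht]; omega
              have h6 : (q : ℤ) * t < q * 2 := by rw [← ht]; omega
              have h7 : 0 < t := (mul_pos_iff_of_pos_left (by omega)).1 h5
              have h8 : t < 2 := lt_of_mul_lt_mul_left h6 (by omega)
              omega
            rw [ht1, mul_one] at ht
            apply hpq'
            rw [← ht]
            exact dvd_sub hpn dvd_rfl
        · have hr' : (n + 1) % p < p := Nat.mod_lt _ hp.pos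
          have h5 : (p : ℤ) ∣ (n : ℤ) + 1 - ((n + 1) % p : ℕ) := by
            have h6 := Nat.dvd_sub_mod (n := p) (n + 1)
            have h7 : ((n + 1 - (n + 1) % p : ℕ) : ℤ) = (n : ℤ) + 1 - ((n + 1) % p : ℕ) := by
              rw [Nat.cast_sub (Nat.mod_le _ _)]
              push_cast
              ring
            rw [← h7]
            exact_mod_cast h6
          rcases T (j := (n + 1) % p) (by omega) (Or.inr h5) with h | h | h
          · exact not_dvd_of_lt (by omega) (by omega) h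
          · have h6 := dvd_sub h h1
            have h7 : (n : ℤ) + 1 - ((n + 1) % p : ℕ) - ((n : ℤ) + 1 - p) = p - ((n + 1) % p : ℕ) := by ring
            rw [h7] at h6
            exact not_dvd_of_lt (by omega) (by omega) h6
          · exact hqn2 h
      · obtain ⟨j, hj⟩ : ∃ j, n + 1 = q + j := ⟨n + 1 - q, by omega⟩
        have e : (n : ℤ) + 1 - j = q := by omega
        rcases T' (j := j) (by omega) (Or.inr (by rw [e])) with h | h | h
        · exact not_dvd_of_lt (by omega) (by omega) h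
        · rw [e] at h
          exact hpq' h
        · exact hpn2 h

theorem row_alt (hn : 5 ≤ n) : Row (alternatingGroup (Fin n)) := by
  apply Row.of_lt
  intro p q hp hq hpq _ hqG
  have : Nontrivial (Fin n) := Fin.nontrivial_iff_two_le.2 (by omega)
  refine alt_not_same hn hp hq hpq ?_
  have h1 : 2 * Nat.card (alternatingGroup (Fin n)) = n.factorial := by
    rw [Nat.card_eq_fintype_card, two_mul_card_alternatingGroup, Fintype.card_perm, Fintype.card_fin]
  exact (hq.dvd_factorial).1 (h1 ▸ Dvd.dvd.mul_left hqG 2)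

end

end Cfsg.Agent.H766.PQ
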